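import Cfsg.Agent.H132.Crit
import Cfsg.Agent.H799.SymSyl
import Cfsg.Prelude.Def_Classical

/-!
# The alternating groups have a real element of odd order normalising no Sylow 2-subgroup
-/

set_option autoImplicit false

namespace Cfsg.Agent.H132

open Subgroup Equiv

/-- `A₅` -/
theorem wand_alt_five : Wand (alternatingGroup (Fin 5)) := by
  have hc : Nat.card (alternatingGroup (Fin 5)) = 60 := by
    rw [Nat.card_eq_fintype_card]
    decide +kernel
  have : Fact (Nat.Prime 5) := ⟨by norm_num⟩
  let x : alternatingGroup (Fin 5) := ⟨c[0, 1, 2, 3, 4], Perm.mem_alternatingGroup.2 (by decide +kernel)⟩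
  let g : alternatingGroup (Fin 5) := ⟨c[1, 4] * c[2, 3], Perm.mem_alternatingGroup.2 (by decide +kernel)⟩
  have hx : orderOf x = 5 := by
    apply orderOf_eq_prime
    · decide +kernel
    · decide +kernel
  have hr : IsConj x x⁻¹ := isConj_iff.2 ⟨g, by decide +kernel⟩
  refine wand_of_large (a := 2) (by norm_num) (by norm_num) hx hr ?_ ?_
  · rw [hc]; norm_num
  · intro k h1 h2
    interval_cases k <;> norm_num

theorem wand_alt {X : Type*} [Group X] [Finite X] (h : Cfsg.IsAlternating X)
    (hP : ∀ P : Sylow 2 X, ¬ (P : Subgroup X).Normal) : Wand X := by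
  obtain ⟨n, hn, ⟨e⟩⟩ := h
  rcases Nat.lt_or_ge n 6 with h6 | h6
  · have : n = 5 := by omega
    subst this
    exact wand_alt_five.congr e.symm
  · let P : Sylow 2 (alternatingGroup (Fin n)) := default
    apply Wand.congr e.symm
    apply wand_of_self P
    · intro hN
      let P' : Sylow 2 X := P.comapOfInjective e.toMonoidHom e.injective (by
        intro y _
        exact ⟨e.symm y, e.apply_symm_apply y⟩)
      apply hP P'
      exact hN.comap e.toMonoidHom
    · exact H799.SymSyl.normalizer_alt (by simpa using h6) P

end Cfsg.Agent.H132
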