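import Cfsg.Agent.H132.RowWitt

/-!
# `Wand` for the unitary groups of odd characteristic, and for `PSp_{2m}(q)`, `q ≡ 1 (4)`
-/

set_option autoImplicit false
set_option linter.unusedSectionVars false

namespace Cfsg.Agent.H132

open CoxeterSystem Cfsg.Agent.ChevalleyStructure.CoxeterGeom Cfsg.Agent.Tits.Roots Cfsg.Agent.Nodes.TypeC
open Cfsg.Agent.Nodes Cfsg.Agent.Nodes.Comb Cfsg.Agent.Nodes.Reps Cfsg.Agent.Nodes.WittRoot Cfsg.Agent.Nodes.BNOf
open Cfsg.Agent.Nodes.WittRGD Cfsg.Agent.Nodes.RGDLib Cfsg.Agent.Nodes.TypeCForm Cfsg.Agent.Nodes.Chart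
open Cfsg.Agent.TitsThree Cfsg.Agent.TitsThree.Siegel Cfsg.Agent.TitsThree.WittFrame
  Cfsg.Agent.TitsThree.WittWeyl Cfsg.Agent.TitsThree.FrameCN
open Cfsg.Agent.Nodes.ClsMap Cfsg.Agent.Nodes.ClsWitt
open Cfsg.Agent.OddHalf.NI.WittSL Cfsg.Agent.OddHalf.NI.Mult

/-- From the isometry group to the simple group. -/
theorem wand_model {F : Type*} [Field F] {V : Type*} [AddCommGroup V] [Module F V] [Finite V] {H : HForm F V} {n : ℕ}
    {Fr : Frame H (Fin n)} {K : Type*} [Group K] (M : Model Fr K) (hA : Amb Fr M.I) (hn : 0 < n)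
    (h : Wand ↥M.I) : Wand K := by
  have : Finite (V ≃ₗ[F] V) :=
    Finite.of_injective (fun g : V ≃ₗ[F] V => (g : V → V)) DFunLike.coe_injective
  refine Wand.of_central M.φ ?_ (WittModel.ker_le_center M hA) h
  rw [← MonoidHom.range_eq_top]
  refine M.gen ⟨0, hn⟩ _ (fun i j _ t => ⟨⟨_, rfl⟩, ⟨_, rfl⟩⟩) (fun p => ⟨⟨_, rfl⟩, ⟨_, rfl⟩⟩)

section Unitary

open Cfsg Cfsg.Agent.LieClassical.HermBasic Cfsg.Agent.LieClassical.HermGen
  Cfsg.Agent.LieClassical.HermSiegel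
open Cfsg.Agent.TitsThree.SiegelGen Cfsg.Agent.TitsThree.WBridge Cfsg.Agent.TitsThree.KSideU
  Cfsg.Agent.TitsThree.KSideUDesc
open Cfsg.Agent.OddHalf.NI.SUClosed

variable {F : Type*} [Field F] [Fintype F] {q N m : ℕ}

/-- the field data of the frame -/
theorem exists_LField (hF : Fintype.card F = q ^ 2) (W : WFrame (PU hF N) m) : ∃ δ : F, LField (toFrame W) δ (F0 hF) := by
  obtain ⟨δ, hδ, hδq⟩ := exists_trace_zero_ne hF
  have hδ' : δ ^ q = -δ := eq_neg_of_add_eq_zero_right hδq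
  have hok : ∀ c : F, (toFrame W).ok 0 c ↔ c + c ^ q = 0 := by
    intro c
    rw [toFrame_ok, ok_iff, herm_zero_left, neg_zero]
    exact ⟨fun h => h.2, fun h => ⟨W.V0.zero_mem, h⟩⟩
  refine ⟨δ, hδ, fun c => ?_, fun c => ?_⟩
  · rw [hok, HU_ε, mul_one]
    constructor
    · intro h
      refine ⟨δ⁻¹ * c, ?_, by field_simp⟩
      rw [mem_F0, mul_pow, inv_pow, hδ', eq_neg_of_add_eq_zero_right h, inv_neg, neg_mul_neg]
    · rintro ⟨a, ha, rfl⟩
      rw [mem_F0] at ha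
      rw [mul_pow, hδ', ha]; ring
  · rw [hok]
    constructor
    · intro h
      refine ⟨δ * c, ?_, by field_simp⟩
      rw [mem_F0, mul_pow, hδ', eq_neg_of_add_eq_zero_right h, neg_mul_neg]
    · rintro ⟨a, ha, rfl⟩
      rw [mem_F0] at ha
      rw [mul_pow, inv_pow, hδ', ha, inv_neg]; ring

/-- `V0 ≠ 0` in odd dimension. -/
theorem exists_V0 (hF : Fintype.card F = q ^ 2) (W : WFrame (PU hF N) m) (hN : 2 * m < N) : ∃ w ∈ W.V0, w ≠ 0 := by
  by_contra hcon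
  push Not at hcon
  have h1 : (⊤ : Submodule F (Fin N → F)) ≤ Submodule.span F (Set.range W.e ∪ Set.range W.f) := by
    intro v _
    obtain ⟨a, b, w, hw, rfl⟩ := W.span v
    rw [hcon w hw, add_zero]
    refine add_mem (Submodule.sum_mem _ fun i _ => Submodule.smul_mem _ _ (Submodule.subset_span (Or.inl ⟨i, rfl⟩)))
      (Submodule.sum_mem _ fun i _ => Submodule.smul_mem _ _ (Submodule.subset_span (Or.inr ⟨i, rfl⟩)))
  have h2 : Module.finrank F (Fin N → F) ≤ Module.finrank F (Submodule.span F (Set.range W.e ∪ Set.range W.f)) := by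
    rw [← finrank_top F (Fin N → F)]
    exact Submodule.finrank_mono h1
  have h3 : Module.finrank F (Submodule.span F (Set.range W.e ∪ Set.range W.f)) ≤ 2 * m := by
    rw [Submodule.span_union]
    refine (Submodule.finrank_add_le_finrank_add_finrank _ _).trans ?_
    have e1 := finrank_range_le_card (R := F) W.e
    have e2 := finrank_range_le_card (R := F) W.f
    rw [Fintype.card_fin] at e1 e2
    unfold Set.finrank at e1 e2
    omega
  rw [Module.finrank_fin_fun] at h2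
  omega

/-- **The group `SU_N(q)`**, as a group of linear maps. -/
theorem wand_IU (hF : Fintype.card F = q ^ 2) {p : ℕ} [Fact p.Prime] [CharP F p] (hp2 : p ≠ 2) (hN3 : 3 ≤ N) (hm : N = 2 * m ∨ N = 2 * m + 1)
    (W : WFrame (PU hF N) m) : Wand ↥(IU F q N) := by
  have hA := WittU.amb_U hF W
  obtain ⟨p0, hp0, hw0⟩ := WittU.exists_adm hF W
  obtain ⟨δ, L⟩ := exists_LField hF W
  have hm0 : 0 < m := by omega
  rcases Nat.lt_or_ge 1 m with hm2 | hm1
  · -- a torus element of a short root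
    obtain ⟨a, ha0, ha⟩ := exists_norm_eq_ne hF (c := (-1 : F))
      (by rw [neg_pow_q hF, one_pow]) (neg_ne_zero.2 one_ne_zero)
    have hxy : (((⟨0, hm0⟩ : Fin m), true) : Fin m × Bool).1 ≠ (((⟨1, hm2⟩ : Fin m), true) : Fin m × Bool).1 := by
      simp [Fin.ext_iff]
    refine wand_witt (i := ⟨0, hm0⟩) hp2 L hA (fun S h1 h2 => gen_IU hF W hN3 hm0 S h1 h2) hp0 hw0
      (SX_dg_mem hA hxy (Units.mk0 a ha0)) (l := a) ?_ ?_
    · rw [SX_dg_apply, if_pos rfl]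
      rfl
    · rw [HU_σ]
      exact ha
  · -- `N = 3`
    obtain ⟨w0, hw, hwne⟩ := exists_V0 hF W (by omega)
    set d := hermForm N F q w0 w0 with hd
    have hd0 : d ≠ 0 := by
      intro h
      exact hwne (W.aniso w0 hw ((sing_iff hF).2 h))
    have hdq : d ^ q = d := by
      have h1 := (HU hF N).swap w0 w0
      rw [HU_h, HU_ε, HU_σ, one_mul] at h1
      exact h1.symm
    have hp0' : p0.c + p0.c ^ q = 0 := by
      have h1 := p0.ok.2
      rw [hw0, ok_iff, herm_zero_left, neg_zero] at h1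
      exact h1
    obtain ⟨c, hc0, hc⟩ := exists_norm_eq_ne hF (c := -(p0.c * p0.c ^ q)) (by
      rw [neg_pow_q hF, mul_pow, pow_q_pow_q hF]; ring) (neg_ne_zero.2 (mul_ne_zero hp0 (pow_ne_zero _ hp0)))
    obtain ⟨a, ha⟩ := exists_norm_eq hF (c := -(c + c ^ q) * d⁻¹) (by
      rw [mul_pow, neg_pow_q hF, add_pow_q hF, pow_q_pow_q hF, inv_pow, hdq]; ring)
    have hok : (toFrame W).ok (a • w0) c := by
      rw [toFrame_ok, ok_iff, herm_smul_left, herm_smul_right, ← hd]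
      refine ⟨W.V0.smul_mem _ hw, ?_⟩
      have h1 : a * (a ^ q * d) = -(c + c ^ q) := by
        rw [← mul_assoc, ha, mul_assoc, inv_mul_cancel₀ hd0, mul_one]
      rw [h1, _root_.neg_neg]
    have h5 := nZ_nZ_mem hA ((⟨0, hm0⟩ : Fin m), true) (p := ⟨a • w0, c, hok⟩) hc0 hp0
    refine wand_witt (i := ⟨0, hm0⟩) hp2 L hA (fun S h1 h2 => gen_IU hF W hN3 hm0 S h1 h2) hp0 hw0 h5.1 h5.2 ?_
    rw [HU_ε, one_mul, HU_σ, HU_σ]
    have h6 : p0.c ^ q ≠ 0 := pow_ne_zero _ hp0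
    rw [mul_pow, inv_pow, pow_q_pow_q hF]
    field_simp
    show c * c ^ q = _
    rw [hc]
    ring

/-- **`PSU_N(q)`, `q` odd, `N ≥ 3`.** -/
theorem wand_psu (hF : Fintype.card F = q ^ 2) {p : ℕ} [Fact p.Prime] [CharP F p] (hp2 : p ≠ 2) (hN3 : 3 ≤ N) : Wand (PSU N F q) := by
  obtain ⟨m, hm⟩ : ∃ m, N = 2 * m ∨ N = 2 * m + 1 := ⟨N / 2, by omega⟩
  obtain ⟨W, -⟩ := WittU.exists_wframe hF hm
  exact wand_model (KInstU.model hF hN3 W) (WittU.amb_U hF W) (by omega) (wand_IU hF hp2 hN3 hm W)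

end Unitary

theorem wand_isPSUChar {X : Type*} [Group X] {p : ℕ} (hp : p.Prime) (hp2 : p ≠ 2) (h : Cfsg.IsPSUChar p X) : Wand X := by
  obtain ⟨F, _, _, _, n, q, hF, hn, -, ⟨e⟩⟩ := h
  have : Fact p.Prime := ⟨hp⟩
  exact Wand.congr e.symm (wand_psu hF hp2 hn)

section Symplectic

open Cfsg.Agent.TitsThree.SpIdent Cfsg.Agent.TitsThree.SpGen

variable {F : Type*} [Field F] {m : ℕ}

theorem spField (m : ℕ) : LField (frame m F) (-1 : F) (⊤ : Subfield F) :=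
  have h := Cfsg.Agent.OddHalf.NI.SpClosed.lf (F := F) (m := m)
  ⟨h.δ0, h.okp, h.okm⟩

/-- **`Sp_{2m}(q)`, `q ≡ 1 (4)`.** -/
theorem wand_isos [Fintype F] {p : ℕ} [Fact p.Prime] [CharP F p] (hp2 : p ≠ 2) (hm : 0 < m)
    (hF : Fintype.card F % 4 ≠ 3) : Wand ↥(isos (form m F)) := by
  obtain ⟨a, ha⟩ := (FiniteField.isSquare_neg_one_iff (F := F)).2 hF
  have ha0 : a ≠ 0 := by
    rintro rfl
    rw [mul_zero] at ha
    exact neg_ne_zero.2 one_ne_zero ha
  have ha' : (⟨a, trivial⟩ : (⊤ : Subfield F)) ≠ 0 := fun h => ha0 (congrArg Subtype.val h)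
  refine wand_witt (i := ⟨0, hm⟩) hp2 (spField m) WittU.amb_Sp (fun S h1 h2 => Cfsg.Agent.OddHalf.NI.SpClosed.gen hm S h1 h2)
    (p0 := adm (1 : F)) one_ne_zero rfl (hL_dg_mem WittU.amb_Sp (spField m) ⟨0, hm⟩ (Units.mk0 ⟨a, trivial⟩ ha'))
    (hL_dg_apply _ _ _) ?_
  rw [form_σ]
  exact ha.symm

/-- **`PSp_{2m}(q)`, `q ≡ 1 (4)`.** -/
theorem wand_psp [Fintype F] {p : ℕ} [Fact p.Prime] [CharP F p] (hp2 : p ≠ 2) (hm : 0 < m)
    (hF : Fintype.card F % 4 ≠ 3) : Wand (PSp m F) :=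
  wand_model (KInstSp.model m F) WittU.amb_Sp hm (wand_isos hp2 hm hF)

end Symplectic

end Cfsg.Agent.H132
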