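import Cfsg.Agent.H132.FrmCls
import Cfsg.Agent.H132.RowChev
import Cfsg.Agent.H132.Central
import Cfsg.Agent.OddHalf.NI.SUClosed
import Cfsg.Agent.OddHalf.NI.SpClosed
import Cfsg.Agent.Nodes.ChartTypeC
import Cfsg.Prelude.Def_LieTypeChar

/-!
# `Wand` for the isometry group of a Witt frame (unitary and symplectic groups of odd characteristic)
-/

set_option autoImplicit false
set_option linter.unusedSectionVars false

namespace Cfsg.Agent.H132

open CoxeterSystem Cfsg.Agent.ChevalleyStructure.CoxeterGeom Cfsg.Agent.Tits.Roots Cfsg.Agent.Nodes.TypeC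
open Cfsg.Agent.Nodes Cfsg.Agent.Nodes.Comb Cfsg.Agent.Nodes.Reps Cfsg.Agent.Nodes.WittRoot Cfsg.Agent.Nodes.BNOf
open Cfsg.Agent.Nodes.WittRGD Cfsg.Agent.Nodes.RGDLib Cfsg.Agent.Nodes.TypeCForm Cfsg.Agent.Nodes.Chart
open Cfsg.Agent.TitsThree Cfsg.Agent.TitsThree.Siegel Cfsg.Agent.TitsThree.WittFrame
  Cfsg.Agent.TitsThree.WittWeyl
open Cfsg.Agent.Nodes.ClsMap Cfsg.Agent.Nodes.ClsWitt
open Cfsg.Agent.OddHalf.NI.WittSL Cfsg.Agent.OddHalf.NI.Mult

section Gen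

variable {F : Type*} [Field F] {V : Type*} [AddCommGroup V] [Module F V] {H : HForm F V} {n : ℕ}

/-- The field of the root groups of type II. -/
structure LField (Fr : Frame H (Fin n)) (δ : F) (K0 : Subfield F) : Prop where
  δ0 : δ ≠ 0
  okp : ∀ c, Fr.ok 0 c ↔ ∃ a ∈ K0, c * H.ε = δ * a
  okm : ∀ c, Fr.ok 0 c ↔ ∃ a ∈ K0, c = δ⁻¹ * a

variable {Fr : Frame H (Fin n)} {δ : F} {K0 : Subfield F} (L : LField Fr δ K0) (i : Fin n)

/-- The homomorphism of the long root. -/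
def hL : Matrix.SpecialLinearGroup (Fin 2) K0 →* (V ≃ₗ[F] V) :=
  (SZ Fr (i, true) L.δ0).comp (Matrix.SpecialLinearGroup.map (n := Fin 2) K0.subtype)

theorem hL_up (a : K0) : ∃ p : Fr.Adm, p.w = 0 ∧ hL L i (up a) = Fr.Z (i, true) p := by
  have hε := H.ε_ne
  have hok : Fr.ok 0 (δ * a * H.ε⁻¹) := (L.okp _).2 ⟨a, a.2, by field_simp⟩
  refine ⟨⟨0, δ * a * H.ε⁻¹, hok⟩, rfl, ?_⟩
  show SZ Fr (i, true) L.δ0 (Matrix.SpecialLinearGroup.map (n := Fin 2) K0.subtype (up a)) = _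
  rw [map_up]
  refine SZ_up Fr (i, true) L.δ0 rfl ?_
  have e : Fr.η ((i, true) : Fin n × Bool) = H.ε := rfl
  rw [e]
  show δ * a * H.ε⁻¹ * H.ε = _
  field_simp
  rfl

theorem hL_lo (a : K0) : ∃ p : Fr.Adm, p.w = 0 ∧ hL L i (lo a) = Fr.Z (ng (i, true)) p := by
  have hok : Fr.ok 0 (δ⁻¹ * a) := (L.okm _).2 ⟨a, a.2, rfl⟩
  refine ⟨⟨0, δ⁻¹ * a, hok⟩, rfl, ?_⟩
  show SZ Fr (i, true) L.δ0 (Matrix.SpecialLinearGroup.map (n := Fin 2) K0.subtype (lo a)) = _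
  rw [map_lo]
  refine SZ_lo Fr (i, true) L.δ0 rfl ?_
  have e : Fr.η (neg ((i, true) : Fin n × Bool)) = 1 := rfl
  rw [e, mul_one]
  rfl

theorem exists_up {p : Fr.Adm} (hw : p.w = 0) : ∃ a : K0, hL L i (up a) = Fr.Z (i, true) p := by
  have hok := p.ok
  rw [hw] at hok
  obtain ⟨a, ha, e⟩ := (L.okp _).1 hok
  refine ⟨⟨a, ha⟩, ?_⟩
  show SZ Fr (i, true) L.δ0 (Matrix.SpecialLinearGroup.map (n := Fin 2) K0.subtype (up _)) = _
  rw [map_up]
  exact SZ_up Fr (i, true) L.δ0 hw e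

theorem exists_lo {p : Fr.Adm} (hw : p.w = 0) : ∃ a : K0, hL L i (lo a) = Fr.Z (ng (i, true)) p := by
  have hok := p.ok
  rw [hw] at hok
  obtain ⟨a, ha, e⟩ := (L.okm _).1 hok
  refine ⟨⟨a, ha⟩, ?_⟩
  show SZ Fr (i, true) L.δ0 (Matrix.SpecialLinearGroup.map (n := Fin 2) K0.subtype (lo _)) = _
  rw [map_lo]
  refine SZ_lo Fr (i, true) L.δ0 hw ?_
  have e1 : Fr.η (neg ((i, true) : Fin n × Bool)) = 1 := rfl
  rw [e1, mul_one]
  exact e

theorem hL_range : (hL L i).range = ZL Fr (i, true) ⊔ ZL Fr (ng (i, true)) := by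
  apply le_antisymm
  · have key : (ZL Fr (i, true) ⊔ ZL Fr (ng (i, true))).comap (hL L i) = ⊤ := by
      refine mem_of_up_lo (fun a => ?_) (fun a => ?_)
      · obtain ⟨p, hw, e⟩ := hL_up L i a
        rw [Subgroup.mem_comap, e]
        exact Subgroup.mem_sup_left ⟨p, hw, rfl⟩
      · obtain ⟨p, hw, e⟩ := hL_lo L i a
        rw [Subgroup.mem_comap, e]
        exact Subgroup.mem_sup_right ⟨p, hw, rfl⟩
    rintro _ ⟨g, rfl⟩
    exact Subgroup.mem_comap.1 (key ▸ Subgroup.mem_top g)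
  · refine sup_le ?_ ?_
    · rintro _ ⟨p, hw, rfl⟩
      obtain ⟨a, e⟩ := exists_up L i hw
      exact ⟨_, e⟩
    · rintro _ ⟨p, hw, rfl⟩
      obtain ⟨a, e⟩ := exists_lo L i hw
      exact ⟨_, e⟩

theorem hL_neg_one (h2 : (2 : F) ≠ 0) : hL L i (-1) ≠ 1 := by
  intro h
  have e : (-1 : Matrix.SpecialLinearGroup (Fin 2) K0) = dg (-1) := by
    apply Subtype.ext
    ext a b
    fin_cases a <;> fin_cases b <;> simp [dg]
  have h1 : hL L i (-1) (Fr.b (i, true)) = (-1 : F) • Fr.b (i, true) := by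
    show SZ Fr (i, true) L.δ0 (Matrix.SpecialLinearGroup.map (n := Fin 2) K0.subtype (-1)) _ = _
    rw [e, map_dg, SZ_dg_apply, if_pos rfl]
    simp
  rw [h] at h1
  have h3 : Fr.b (i, true) = (-1 : F) • Fr.b (i, true) := h1
  have h4 : (2 : F) • Fr.b (i, true) = 0 := by
    rw [two_smul]
    nth_rw 1 [h3]
    rw [neg_one_smul, neg_add_cancel]
  exact b_ne_zero (i, true) ((smul_eq_zero.1 h4).resolve_left h2)

variable {i}

/-- **`Wand` of the isometry group of a Witt frame**, if the torus inverts a long root element. -/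
theorem wand_witt [Fintype F] [Finite V] {p : ℕ} [Fact p.Prime] [CharP F p] (hp2 : p ≠ 2)
    (L : LField Fr δ K0) {G0 : Subgroup (V ≃ₗ[F] V)} (hA : Amb Fr G0)
    (gen : ∀ S : Subgroup ↥G0, (∀ i, (rg Fr (sr i)).subgroupOf G0 ≤ S) → (∀ i, (rg Fr (-sr i)).subgroupOf G0 ≤ S) →
      S = ⊤) {p0 : Fr.Adm} (hp0 : p0.c ≠ 0) (hw0 : p0.w = 0) {t : V ≃ₗ[F] V} (ht : t ∈ Tor Fr G0) {l : F}
    (htl : t (Fr.b (i, true)) = l • Fr.b (i, true)) (hl : l * H.σ l = -1) : Wand ↥G0 := by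
  have hodd : Odd p := (Fact.out : p.Prime).odd_of_ne_two hp2
  have h2 : (2 : F) ≠ 0 := by
    intro h0
    have h1 : (p : ℕ) ∣ 2 := (CharP.cast_eq_zero_iff F p 2).1 (by exact_mod_cast h0)
    exact hp2 ((Nat.prime_dvd_prime_iff_eq Fact.out Nat.prime_two).1 h1)
  have : Finite (V ≃ₗ[F] V) :=
    Finite.of_injective (fun g : V ≃ₗ[F] V => (g : V → V)) DFunLike.coe_injective
  have : Finite (CoxeterMatrix.B n).Group := TypeC.finite_W (CoxeterMatrix.B n).toCoxeterSystem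
  have := Fintype.ofFinite (CoxeterMatrix.B n).Group
  have := Fintype.ofFinite K0
  have hcK : CharP K0 p := (RingHom.charP_iff K0.subtype K0.subtype.injective p).2 inferInstance
  set cs := (CoxeterMatrix.B n).toCoxeterSystem with hcs
  have C := cls_restrict (ClsWitt.cls hp0 hw0 hA hodd cs) G0 (fun x _ => hA.rg_le x) (fun i => nn_mem hA p0 i)
    (fun x => (⟨zv Fr p0 x, zv_mem hA x⟩ : ↥G0)) (fun _ _ => rfl)
  have hG : Bruhat.GG cs (isCartan n) ((Tor Fr G0).subgroupOf G0) (fun x => (rg Fr x).subgroupOf G0) = ⊤ := by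
    refine gen _ (fun i => ?_) (fun i => ?_)
    · exact le_trans (X_le_G1 (X := fun x => (rg Fr x).subgroupOf G0) (isRoot_sr cs _ i)) le_sup_right
    · exact le_trans (X_le_G1 (X := fun x => (rg Fr x).subgroupOf G0) (isRoot_sr cs _ i).neg) le_sup_right
  obtain ⟨r, hr⟩ := exists_long cs ((i, true) : Fin n × Bool)
  have hrR : r ∈ LR n := ⟨_, hr⟩
  have hr' : ee (-r) = wt (ng (i, true)) + wt (ng (i, true)) := by
    rw [ee_neg, hr, wt_ng]; abel
  have hle : ∀ a, ZL Fr a ≤ G0 := by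
    rintro a _ ⟨p, -, rfl⟩
    exact hA.Z_mem _ _
  -- the root `SL₂`
  have hrange : ∀ g, hL L i g ∈ G0 := by
    intro g
    have h1 : hL L i g ∈ (hL L i).range := ⟨g, rfl⟩
    rw [hL_range] at h1
    exact (sup_le (hle _) (hle _)) h1
  let φ : Matrix.SpecialLinearGroup (Fin 2) K0 →* ↥G0 := (hL L i).codRestrict G0 hrange
  have hφ : ∀ g, ((φ g : ↥G0) : V ≃ₗ[F] V) = hL L i g := fun _ => rfl
  have hφr : φ.range = (ZV Fr r).subgroupOf G0 ⊔ (ZV Fr (-r)).subgroupOf G0 := by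
    rw [ZV_eq Fr hr, ZV_eq Fr hr', ← Subgroup.subgroupOf_sup (hle _) (hle _), ← hL_range L]
    ext g
    rw [Subgroup.mem_subgroupOf]
    constructor
    · rintro ⟨k, rfl⟩
      exact ⟨k, rfl⟩
    · rintro ⟨k, hk⟩
      exact ⟨k, Subtype.ext hk⟩
  have hne : φ (-1) ≠ 1 := by
    intro h
    exact hL_neg_one L i h2 (congrArg Subtype.val h)
  have hinj := inj_of_neg_one (odd_card_of p hp2) φ hne
  have e : Matrix.SpecialLinearGroup (Fin 2) K0 ≃* ↥((ZV Fr r).subgroupOf G0 ⊔ (ZV Fr (-r)).subgroupOf G0) :=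
    (MonoidHom.ofInjective hinj).trans (MulEquiv.subgroupCongr hφr)
  -- the element
  have hu : Fr.Z (i, true) p0 ∈ G0 := hA.Z_mem _ _
  have hconj : t * Fr.Z (i, true) p0 * t⁻¹ = (Fr.Z (i, true) p0)⁻¹ := by
    rw [conj_Z Fr (hA.iso t ht.1) htl p0 p0 (by rw [hw0, map_zero]) rfl, ← Fr.Z_inv]
    congr 1
    apply Frame.Adm.ext
    · rw [Frame.Adm.smul_w, Frame.Adm.inv_w, hw0, smul_zero, neg_zero]
    · rw [Frame.Adm.smul_c, Frame.Adm.inv_c, hw0, H.zero_left, H.σσ, mul_comm (H.σ l), hl]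
      ring
  refine wand_of_cls C hp2 hG hrR (fun s hs => ChartTypeC.trans cs hrR hs) ?_ e
    (u := ⟨Fr.Z (i, true) p0, hu⟩) (t := ⟨t, ht.1⟩) ?_ ?_ ?_ ?_
  · intro h
    have h3 : zv Fr p0 r = 1 := congrArg Subtype.val h
    rw [zv_eq Fr hr] at h3
    exact zl_ne_one hp0 hw0 h2 _ h3
  · rw [Subgroup.mem_subgroupOf, ZV_eq Fr hr]
    exact ⟨p0, hw0, rfl⟩
  · intro h
    have h3 : Fr.Z (i, true) p0 = 1 := congrArg Subtype.val h
    have h4 := Z_apply_neg Fr (i, true) p0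
    rw [h3, hw0, smul_zero, add_zero] at h4
    have h5 : (p0.c * Fr.η (i, true)) • Fr.b (i, true) = 0 := by
      have h6 : Fr.b (neg (i, true)) = Fr.b (neg (i, true)) + (p0.c * Fr.η (i, true)) • Fr.b (i, true) := h4
      exact (left_eq_add.1 h6)
    rcases smul_eq_zero.1 h5 with h6 | h6
    · exact (mul_ne_zero hp0 (Fr.η_ne _)) h6
    · exact b_ne_zero (i, true) h6
  · exact ht
  · exact Subtype.ext hconj

end Gen

/-! ### The torus elements -/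

section Torus

variable {F : Type*} [Field F] {V : Type*} [AddCommGroup V] [Module F V] {H : HForm F V} {n : ℕ}
  {Fr : Frame H (Fin n)} {G0 : Subgroup (V ≃ₗ[F] V)} (hA : Amb Fr G0)

include hA

/-- The torus element of a short root `SL₂`. -/
theorem SX_dg_mem {x y : Fin n × Bool} (h : x.1 ≠ y.1) (t : Fˣ) : SX Fr h (dg t) ∈ Tor Fr G0 := by
  constructor
  · have key : G0.comap (SX Fr h) = ⊤ := by
      refine mem_of_up_lo (fun a => ?_) (fun a => ?_)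
      · rw [Subgroup.mem_comap, SX_up]
        exact hA.X_mem _ _ _
      · rw [Subgroup.mem_comap, SX_lo]
        exact hA.X_mem _ _ _
    exact Subgroup.mem_comap.1 (key ▸ Subgroup.mem_top _)
  · intro z
    refine ⟨_, ?_, SX_dg_apply Fr h t z⟩
    have h1 : (t : F) ≠ 0 := t.ne_zero
    have h2 : ((t⁻¹ : Fˣ) : F) ≠ 0 := (t⁻¹).ne_zero
    have h3 : H.σ (t : F) ≠ 0 := by simp
    have h4 : H.σ ((t⁻¹ : Fˣ) : F) ≠ 0 := by simp
    split_ifs
    exacts [h1, h2, h3, h4, one_ne_zero]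

/-- The torus element of a long root `SL₂`. -/
theorem hL_dg_mem {δ : F} {K0 : Subfield F} (L : LField Fr δ K0) (i : Fin n) (t : K0ˣ) :
    hL L i (dg t) ∈ Tor Fr G0 := by
  constructor
  · have h1 : hL L i (dg t) ∈ (hL L i).range := ⟨_, rfl⟩
    rw [hL_range] at h1
    have hle : ∀ a, ZL Fr a ≤ G0 := by
      rintro a _ ⟨p, -, rfl⟩
      exact hA.Z_mem _ _
    exact (sup_le (hle _) (hle _)) h1
  · intro z
    have e : hL L i (dg t) = SZ Fr (i, true) L.δ0 (dg (Units.map (K0.subtype : K0 →* F) t)) := by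
      show SZ Fr (i, true) L.δ0 (Matrix.SpecialLinearGroup.map (n := Fin 2) K0.subtype (dg t)) = _
      rw [map_dg]
    rw [e]
    refine ⟨_, ?_, SZ_dg_apply Fr _ L.δ0 _ z⟩
    split_ifs
    exacts [Units.ne_zero _, Units.ne_zero _, one_ne_zero]

omit hA in
theorem hL_dg_apply {δ : F} {K0 : Subfield F} (L : LField Fr δ K0) (i : Fin n) (t : K0ˣ) :
    hL L i (dg t) (Fr.b (i, true)) = ((t : K0) : F) • Fr.b (i, true) := by
  show SZ Fr (i, true) L.δ0 (Matrix.SpecialLinearGroup.map (n := Fin 2) K0.subtype (dg t)) _ = _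
  rw [map_dg, SZ_dg_apply, if_pos rfl]
  rfl

/-- The product of two Weyl elements of type II. -/
theorem nZ_nZ_mem (x : Fin n × Bool) {p p0 : Fr.Adm} (hp : p.c ≠ 0) (hp0 : p0.c ≠ 0) :
    nZ Fr x p * nZ Fr x p0 ∈ Tor Fr G0 ∧
      (nZ Fr x p * nZ Fr x p0) (Fr.b x) = (H.ε * p.c * (H.σ p0.c)⁻¹) • Fr.b x := by
  have hη := Fr.η_ne x
  have hη' := Fr.η_ne (neg x)
  have hε := H.ε_ne
  have hσ0 : H.σ p0.c ≠ 0 := by simpa using hp0
  have hσ : H.σ p.c ≠ 0 := by simpa using hp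
  have e1 : (nZ Fr x p * nZ Fr x p0) (Fr.b x) = (H.ε * p.c * (H.σ p0.c)⁻¹) • Fr.b x := by
    rw [mul_apply', nZ_apply_self Fr x p0 hp0, map_smul, nZ_apply_neg Fr x p hp, smul_smul]
    congr 1
    field_simp
  have e2 : (nZ Fr x p * nZ Fr x p0) (Fr.b (neg x)) =
      (Fr.η x * p0.c * (H.ε * (Fr.η x)⁻¹ * (H.σ p.c)⁻¹)) • Fr.b (neg x) := by
    rw [mul_apply', nZ_apply_neg Fr x p0 hp0, map_smul, nZ_apply_self Fr x p hp, smul_smul]
  refine ⟨⟨mul_mem (nZ_mem hA _ _) (nZ_mem hA _ _), fun z => ?_⟩, e1⟩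
  by_cases hz : z.1 = x.1
  · rcases eq_or_ng hz with rfl | rfl
    · exact ⟨_, mul_ne_zero (mul_ne_zero hε hp) (inv_ne_zero hσ0), e1⟩
    · exact ⟨_, mul_ne_zero (mul_ne_zero hη hp0) (mul_ne_zero (mul_ne_zero hε (inv_ne_zero hη)) (inv_ne_zero hσ)), e2⟩
  · refine ⟨1, one_ne_zero, ?_⟩
    rw [mul_apply', nZ_apply_of_ne Fr hz, nZ_apply_of_ne Fr hz, one_smul]
    rfl

end Torus

end Cfsg.Agent.H132
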